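import Groth.Agent.Lib.WeakAssField.Basic
import Mathlib.RingTheory.QuasiFinite.Basic
import Mathlib.RingTheory.Unramified.LocalStructure
import Mathlib.RingTheory.AdjoinRoot
import Mathlib.RingTheory.LocalRing.Module

/-!
# Weakly associated primes under flat quasi-finite maps
-/

set_option autoImplicit false
set_option linter.all false
universe u

open TensorProduct

namespace GrothLib.WeakAssQF

open GrothLib.AssPts GrothLib.WeakAssField

variable {A B : Type u} [CommRing A] [CommRing B] [Algebra A B]

/-- Primes above a weakly associated prime, with no smaller prime above it, are weakly associated. -/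
theorem mem_weakAss_tensor [Module.Flat A B] {M : Type u} [AddCommGroup M] [Module A M] {p : Ideal A}
    {t : Ideal B} [t.IsPrime] (hover : t.comap (algebraMap A B) = p)
    (hinc : ∀ P : Ideal B, P.IsPrime → P ≤ t → P.comap (algebraMap A B) = p → P = t)
    (hp : p ∈ FlatCA.weakAss A M) : t ∈ FlatCA.weakAss B (B ⊗[A] M) := by
  obtain ⟨m, hm⟩ := mem_weakAss_iff.1 hp
  refine mem_weakAss_iff.2 ⟨(1 : B) ⊗ₜ[A] m, ?_⟩
  rw [colon_one_tmul]
  refine ⟨⟨inferInstance, Ideal.map_le_iff_le_comap.2 (hm.1.2.trans_eq hover.symm)⟩, ?_⟩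
  rintro P ⟨hP, hIP⟩ hPt
  have h1 : P.comap (algebraMap A B) ≤ p := (Ideal.comap_mono hPt).trans_eq hover
  have h2 := le_antisymm h1 (hm.2 ⟨Ideal.IsPrime.comap _, Ideal.map_le_iff_le_comap.1 hIP⟩ h1)
  exact (hinc P hP hPt h2).ge

/-- Contraction, when a localization of the algebra is good. -/
theorem comap_mem_weakAss_of_localization {C : Type u} [CommRing C] [Algebra B C] [Algebra A C]
    [IsScalarTower A B C] (S : Submonoid B) [IsLocalization S C] (hC : GoodA A C)
    {M : Type u} [AddCommGroup M] [Module A M] {t : Ideal B} [t.IsPrime]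
    (hS : Disjoint (S : Set B) t) (ht : t ∈ FlatCA.weakAss B (B ⊗[A] M)) :
    t.comap (algebraMap A B) ∈ FlatCA.weakAss A M := by
  haveI : Module.Flat B C := IsLocalization.flat C S
  obtain ⟨z, hz⟩ := mem_weakAss_iff.1 ht
  have hcomap : (t.map (algebraMap B C)).comap (algebraMap B C) = t :=
    IsLocalization.comap_map_of_isPrime_disjoint S C ‹t.IsPrime› hS
  haveI : (t.map (algebraMap B C)).IsPrime := IsLocalization.isPrime_of_isPrime_disjoint S C t ‹_› hS
  have h : t.map (algebraMap B C) ∈ FlatCA.weakAss C (C ⊗[B] (B ⊗[A] M)) := by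
    refine mem_weakAss_iff.2 ⟨(1 : C) ⊗ₜ[B] z, ?_⟩
    rw [colon_one_tmul]
    refine ⟨⟨inferInstance, Ideal.map_mono hz.1.2⟩, ?_⟩
    rintro Q ⟨hQ, hIQ⟩ hQt
    have h1 : Q.comap (algebraMap B C) ≤ t := (Ideal.comap_mono hQt).trans_eq hcomap
    have h2 := hz.2 ⟨Ideal.IsPrime.comap _, Ideal.map_le_iff_le_comap.1 hIQ⟩ h1
    exact Ideal.map_le_iff_le_comap.2 h2
  rw [weakAss_congr (TensorProduct.AlgebraTensorModule.cancelBaseChange A B C C M)] at h
  have h' := hC M _ h
  rwa [IsScalarTower.algebraMap_eq A B C, ← Ideal.comap_comap, hcomap] at h'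

/-- Finite flat case. -/
theorem comap_mem_weakAss_finite [Module.Finite A B] [Module.Flat A B] {M : Type u} [AddCommGroup M] [Module A M]
    {t : Ideal B} [t.IsPrime] (ht : t ∈ FlatCA.weakAss B (B ⊗[A] M)) :
    t.comap (algebraMap A B) ∈ FlatCA.weakAss A M := by
  set p := t.comap (algebraMap A B) with hp
  let Ap := Localization.AtPrime p
  let S := Algebra.algebraMapSubmonoid B p.primeCompl
  let C := Localization S
  letI : Algebra Ap C := localizationAlgebra p.primeCompl B
  haveI : IsScalarTower A Ap C := IsScalarTower.of_algebraMap_eq fun a => by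
    rw [RingHom.algebraMap_toAlgebra, IsLocalization.map_eq, ← IsScalarTower.algebraMap_apply]
  haveI : IsLocalizedModule p.primeCompl (IsScalarTower.toAlgHom A B C).toLinearMap :=
    isLocalizedModule_iff_isLocalization.2 inferInstance
  haveI : Module.Finite Ap C := Module.Finite.of_isLocalizedModule p.primeCompl (IsScalarTower.toAlgHom A B C).toLinearMap
  haveI : Module.Flat Ap C := Module.Flat.of_isLocalizedModule Ap p.primeCompl (IsScalarTower.toAlgHom A B C).toLinearMap
  haveI : Module.Free Ap C := Module.free_of_flat_of_isLocalRing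
  have hC : GoodA A C := goodA_comp (B := Ap)
    (goodA_of_units fun b => by
      obtain ⟨⟨a, s⟩, h⟩ := IsLocalization.surj p.primeCompl b
      exact ⟨s, a, IsLocalization.map_units Ap s, by rw [mul_comm]; exact h⟩)
    goodA_finite_free
  refine comap_mem_weakAss_of_localization S hC ?_ ht
  rw [Set.disjoint_left]
  rintro _ ⟨a, ha, rfl⟩ hat
  exact ha hat

/-- Standard étale algebras are good. -/
theorem goodA_standardEtale (C : Type u) [CommRing C] [Algebra A C] [Algebra.IsStandardEtale A C] : GoodA A C := by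
  obtain ⟨P⟩ := Algebra.IsStandardEtale.nonempty_standardEtalePresentation (R := A) (S := C)
  let T := Localization.Away (AdjoinRoot.mk P.f P.g)
  let e : C ≃ₐ[A] T := P.equivRing.trans P.P.equivAwayAdjoinRoot
  haveI : Module.Free A (AdjoinRoot P.f) := Module.Free.of_basis (AdjoinRoot.powerBasis' P.monic_f).basis
  haveI : Module.Finite A (AdjoinRoot P.f) := (AdjoinRoot.powerBasis' P.monic_f).finite
  have hT : GoodA A T := by
    haveI : Module.Flat (AdjoinRoot P.f) T := IsLocalization.flat T (Submonoid.powers (AdjoinRoot.mk P.f P.g))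
    refine goodA_comp (B := AdjoinRoot P.f) goodA_finite_free (goodA_of_units fun b => ?_)
    obtain ⟨⟨a, s⟩, h⟩ := IsLocalization.surj (Submonoid.powers (AdjoinRoot.mk P.f P.g)) b
    exact ⟨s, a, IsLocalization.map_units T s, by rw [mul_comm]; exact h⟩
  letI : Algebra T C := e.symm.toRingEquiv.toRingHom.toAlgebra
  haveI : IsScalarTower A T C := IsScalarTower.of_algebraMap_eq fun a => (e.symm.commutes a).symm
  haveI : Module.Flat T C := RingHom.Flat.of_bijective e.symm.bijective
  exact goodA_comp hT (goodA_of_units fun c => ⟨1, e c, by simp, by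
    rw [map_one, one_mul]; exact (e.symm_apply_apply c).symm⟩)

/-- Étale case. -/
theorem comap_mem_weakAss_etale [Algebra.Etale A B] {M : Type u} [AddCommGroup M] [Module A M]
    {u : Ideal B} [u.IsPrime] (hu : u ∈ FlatCA.weakAss B (B ⊗[A] M)) :
    u.comap (algebraMap A B) ∈ FlatCA.weakAss A M := by
  obtain ⟨g, hg, hstd⟩ := Algebra.IsEtaleAt.exists_isStandardEtale (R := A) u
  refine comap_mem_weakAss_of_localization (C := Localization.Away g) (Submonoid.powers g)
    (goodA_standardEtale _) ?_ hu
  rw [Set.disjoint_left]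
  rintro _ ⟨n, rfl⟩ hn
  exact hg (‹u.IsPrime›.mem_of_pow_mem n hn)

/-- No proper inclusions inside the fibres of a quasi-finite algebra. -/
theorem eq_of_le_of_comap_eq [Algebra.QuasiFinite A B] {p : Ideal A} {t : Ideal B} [t.IsPrime]
    (hover : t.comap (algebraMap A B) = p) (P : Ideal B) (hP : P.IsPrime) (hle : P ≤ t)
    (hc : P.comap (algebraMap A B) = p) : P = t :=
  Algebra.QuasiFinite.eq_of_le_of_under_eq (R := A) P t hle (hc.trans hover.symm)

end GrothLib.WeakAssQF
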